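import Groth.Agent.SmoothExt.Obstruction
import Groth.Agent.FlatMor2.DeformLocNil
import Groth.Agent.FlatMor2.AffineThickening
import Groth.Agent.FlatMor2.StratVanish.Core
import Groth.Agent.FlatmorThree.SmoothLift
import Groth.Agent.KTheory.DevissageNil

/-!
Smooth lifts of affine schemes along nilpotent thickenings.
-/

set_option autoImplicit false
set_option linter.style.longLine false
set_option linter.style.haveILetI false

noncomputable section

universe u

open CategoryTheory AlgebraicGeometry Limits TopologicalSpace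

namespace Groth.SmoothExt

/-- Infinitesimal lifting along nilpotent ideals. -/
theorem exists_lift_of_pow_eq_bot {X Y : Scheme.{u}} (f : X ⟶ Y) [Smooth f] :
    ∀ (n : ℕ) (A : Type u) [CommRing A] (I : Ideal A), I ^ (2 ^ n) = ⊥ →
      ∀ (a : Spec (CommRingCat.of (A ⧸ I)) ⟶ X) (b : Spec (CommRingCat.of A) ⟶ Y),
      Spec.map (CommRingCat.ofHom (Ideal.Quotient.mk I)) ≫ b = a ≫ f →
      ∃ l : Spec (CommRingCat.of A) ⟶ X,
        Spec.map (CommRingCat.ofHom (Ideal.Quotient.mk I)) ≫ l = a ∧ l ≫ f = b := by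
  intro n
  induction n with
  | zero =>
    intro A _ I hI a b w
    refine Groth.FlatmorThree.SmoothLift.isFormallySmoothHom_of_smooth f A I ?_ a b w
    rw [pow_zero, pow_one] at hI
    rw [hI, ← Ideal.zero_eq_bot, zero_pow two_ne_zero]
  | succ n ih =>
    intro A _ I hI a b w
    have hKI : I ^ (2 ^ n) ≤ I := Ideal.pow_le_self (Nat.two_pow_pos n).ne'
    let π : A →+* A ⧸ I ^ (2 ^ n) := Ideal.Quotient.mk _
    let σ : A ⧸ I →+* (A ⧸ I ^ (2 ^ n)) ⧸ I.map π := Ideal.quotientMap (I.map π) π Ideal.le_comap_map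
    let ρ : (A ⧸ I ^ (2 ^ n)) ⧸ I.map π →+* A ⧸ I :=
      Ideal.Quotient.lift (I.map π) (Ideal.Quotient.factor hKI) (by
        intro x hx
        have hle : I.map π ≤ RingHom.ker (Ideal.Quotient.factor hKI) :=
          Ideal.map_le_iff_le_comap.2 fun y hy => Ideal.Quotient.eq_zero_iff_mem.2 hy
        exact hle hx)
    have h1 : CommRingCat.ofHom π ≫ CommRingCat.ofHom (Ideal.Quotient.mk (I.map π)) =
        CommRingCat.ofHom (Ideal.Quotient.mk I) ≫ CommRingCat.ofHom σ := by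
      ext x
      rfl
    have h2 : CommRingCat.ofHom σ ≫ CommRingCat.ofHom ρ = 𝟙 (CommRingCat.of (A ⧸ I)) :=
      CommRingCat.hom_ext (Ideal.Quotient.ringHom_ext (RingHom.ext fun x => rfl))
    have hI' : I.map π ^ (2 ^ n) = ⊥ := by rw [← Ideal.map_pow]; exact Ideal.map_quotient_self _
    obtain ⟨l, hl, hlf⟩ := ih (A ⧸ I ^ (2 ^ n)) (I.map π) hI' (Spec.map (CommRingCat.ofHom σ) ≫ a)
      (Spec.map (CommRingCat.ofHom π) ≫ b) (by
        rw [← Category.assoc, ← Spec.map_comp, h1, Spec.map_comp, Category.assoc, w, Category.assoc])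
    have hK2 : (I ^ (2 ^ n)) ^ 2 = ⊥ := by rw [← pow_mul, ← pow_succ]; exact hI
    obtain ⟨l', hl', hlf'⟩ := Groth.FlatmorThree.SmoothLift.isFormallySmoothHom_of_smooth f A _ hK2 l b hlf.symm
    refine ⟨l', ?_, hlf'⟩
    have h4 : CommRingCat.ofHom (Ideal.Quotient.mk I) =
        CommRingCat.ofHom π ≫ CommRingCat.ofHom (Ideal.Quotient.mk (I.map π)) ≫ CommRingCat.ofHom ρ := by
      rw [← Category.assoc, h1, Category.assoc, h2, Category.comp_id]
    rw [h4, Spec.map_comp, Spec.map_comp, Category.assoc, Category.assoc, hl', hl,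
      ← Category.assoc, ← Spec.map_comp, h2, Spec.map_id, Category.id_comp]

/-- Morphisms to smooth schemes extend along surjective closed immersions into noetherian affines. -/
theorem exists_extend_affine {X₀ X X' Y : Scheme.{u}} [IsAffine X] [IsLocallyNoetherian X]
    (j : X₀ ⟶ X) [IsClosedImmersion j] [Surjective j] (q : X' ⟶ Y) [Smooth q]
    (a : X₀ ⟶ X') (b : X ⟶ Y) (w : j ≫ b = a ≫ q) : ∃ h : X ⟶ X', j ≫ h = a ∧ h ≫ q = b := by
  obtain ⟨hA, hs⟩ := IsClosedImmersion.isAffine_surjective_of_isAffine j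
  have hN : IsNoetherianRing Γ(X, ⊤) :=
    IsLocallyNoetherian.component_noetherian ⟨⊤, isAffineOpen_top X⟩
  let I : Ideal Γ(X, ⊤) := RingHom.ker j.appTop.hom
  have hnil : IsNilpotent I := by
    refine (Ideal.FG.isNilpotent_iff_le_nilradical (IsNoetherian.noetherian I)).2 fun x hx => ?_
    refine (Scheme.isNilpotent_iff_basicOpen_eq_bot_of_isCompact (isAffineOpen_top X).isCompact x).2 ?_
    refine eq_bot_iff.2 fun p hp => ?_
    obtain ⟨z, rfl⟩ := j.surjective p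
    have hz : z ∈ j ⁻¹ᵁ X.basicOpen x := hp
    rw [Scheme.preimage_basicOpen, show (j.app ⊤) x = 0 from hx, Scheme.basicOpen_zero] at hz
    exact absurd hz (by simp)
  obtain ⟨n, hn⟩ := hnil
  have hn' : I ^ (2 ^ n) = ⊥ := pow_eq_zero_of_le Nat.lt_two_pow_self.le hn
  let e : Γ(X, ⊤) ⧸ I ≃+* Γ(X₀, ⊤) := RingHom.quotientKerEquivOfSurjective hs
  have hc : CommRingCat.ofHom (Ideal.Quotient.mk I) ≫ CommRingCat.ofHom e.toRingHom = j.appTop := rfl
  let k : X₀ ⟶ Spec (CommRingCat.of (Γ(X, ⊤) ⧸ I)) :=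
    X₀.isoSpec.hom ≫ Spec.map (CommRingCat.ofHom e.toRingHom)
  haveI : IsIso (CommRingCat.ofHom e.toRingHom) := e.toCommRingCatIso.isIso_hom
  haveI : IsIso k := inferInstance
  have hk : k ≫ Spec.map (CommRingCat.ofHom (Ideal.Quotient.mk I)) = j ≫ X.isoSpec.hom := by
    rw [Category.assoc, ← Spec.map_comp, hc]
    exact Scheme.isoSpec_hom_naturality j
  obtain ⟨l, hl, hlq⟩ := exists_lift_of_pow_eq_bot q n Γ(X, ⊤) I hn' (inv k ≫ a) (X.isoSpec.inv ≫ b) (by
    rw [Category.assoc, ← w, IsIso.eq_inv_comp, ← Category.assoc, hk, Category.assoc, Iso.hom_inv_id_assoc])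
  refine ⟨X.isoSpec.hom ≫ l, ?_, by rw [Category.assoc, hlq, Iso.hom_inv_id_assoc]⟩
  rw [← Category.assoc, ← hk, Category.assoc, hl, IsIso.hom_inv_id_assoc]

/-- A smooth lift of an affine scheme along a square-zero thickening. -/
theorem exists_affine_lift_sqZero {X₀ S₀ S : Scheme.{u}} (i : S₀ ⟶ S) [IsClosedImmersion i] [Surjective i]
    [IsSqZero i] (f₀ : X₀ ⟶ S₀) [Smooth f₀] [IsAffine X₀] :
    ∃ (X : Scheme.{u}) (f : X ⟶ S) (j : X₀ ⟶ X), Smooth f ∧ IsAffine X ∧ IsPullback j f₀ f i := by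
  haveI : (obsSh f₀ i).IsQuasicoherent :=
    Groth.LocFree.isQCoh_homSh_of_isFinLocFree (isFinLocFree_pOm (𝟙 X₀) f₀)
  have h2 : Subsingleton (Coh.HH X₀ (obsSh f₀ i) 2) :=
    haveI := Groth.CohBase.hVanish_of_isAffineOpen (obsSh f₀ i) (isAffineOpen_top X₀) 1
    (Groth.CohBase.equivHTop (X := X₀.toTopCat) _ 2).toEquiv.subsingleton
  obtain ⟨X, f, j, hf, hc⟩ := exists_smooth_deformation f₀ i h2
  obtain ⟨_, _⟩ := thickening_of_isPullback hc
  exact ⟨X, f, j, hf, Groth.FlatMor2.isAffine_of_surjective_closedImmersion j, hc⟩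

/-- A smooth lift of an affine scheme along a nilpotent thickening. -/
theorem exists_affine_lift_pow (m : ℕ) : ∀ {X₀ S₀ S : Scheme.{u}} (i : S₀ ⟶ S) [IsClosedImmersion i]
    [Surjective i], i.ker ^ (2 ^ m) = ⊥ → ∀ (f₀ : X₀ ⟶ S₀) [Smooth f₀] [IsAffine X₀],
    ∃ (X : Scheme.{u}) (f : X ⟶ S) (j : X₀ ⟶ X), Smooth f ∧ IsAffine X ∧ IsPullback j f₀ f i := by
  induction m with
  | zero =>
    intro X₀ S₀ S i _ _ hI f₀ _ _
    haveI : IsSqZero i := ⟨by rw [pow_zero, pow_one] at hI; rw [hI]; exact Scheme.IdealSheafData.ext (funext fun U => by simp [sq])⟩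
    exact exists_affine_lift_sqZero i f₀
  | succ m ih =>
    intro X₀ S₀ S i _ _ hI f₀ _ _
    let K : S.IdealSheafData := i.ker ^ (2 ^ m)
    have hK : K ≤ i.ker := fun U => by
      rw [Scheme.IdealSheafData.ideal_pow, Pi.pow_apply]
      exact Ideal.pow_le_self (Nat.two_pow_pos m).ne'
    let i' : S₀ ⟶ K.subscheme := IsClosedImmersion.lift K.subschemeι i (by rwa [Scheme.IdealSheafData.ker_subschemeι])
    have hi' : i' ≫ K.subschemeι = i := IsClosedImmersion.lift_fac ..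
    haveI : IsClosedImmersion (i' ≫ K.subschemeι) := by rw [hi']; infer_instance
    haveI : IsClosedImmersion i' := IsClosedImmersion.of_comp i' K.subschemeι
    haveI : Surjective i' := ⟨fun z => by
      obtain ⟨y, hy⟩ := i.surjective (K.subschemeι z)
      refine ⟨y, K.subschemeι.isClosedEmbedding.injective ?_⟩
      rw [← Scheme.Hom.comp_apply, hi']
      exact hy⟩
    haveI : Surjective K.subschemeι := ⟨fun y => by
      obtain ⟨z, hz⟩ := i.surjective y
      exact ⟨i' z, by rw [← Scheme.Hom.comp_apply, hi']; exact hz⟩⟩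
    haveI : IsSqZero K.subschemeι := ⟨by
      rw [Scheme.IdealSheafData.ker_subschemeι]
      change (i.ker ^ (2 ^ m)) ^ 2 = ⊥
      rw [← pow_mul, ← pow_succ]; exact hI⟩
    have hsq : IsPullback i' (𝟙 S₀) K.subschemeι i :=
      IsPullback.of_isLimit' ⟨by rw [hi', Category.id_comp]⟩ (PullbackCone.IsLimit.mk _ (fun s => s.snd)
        (fun s => (cancel_mono K.subschemeι).1 (by rw [Category.assoc, hi', s.condition]))
        (fun s => Category.comp_id _) (fun s t _ ht => by rw [← ht, Category.comp_id]))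
    have hI' : i'.ker ^ (2 ^ m) = ⊥ := by
      refine Scheme.IdealSheafData.ext_of_iSup_eq_top _ (Groth.FlatMor2.iSup_affine_le K.subschemeι) fun p => ?_
      rw [Scheme.IdealSheafData.ideal_pow, Pi.pow_apply,
        Groth.FlatMor2.ker_ideal_eq_map hsq p.1.1.2 p.1.2.2 p.2, ← Ideal.map_pow]
      refine (Ideal.map_eq_bot_iff_le_ker _).2 fun x hx => ?_
      have hx' : x ∈ K.subschemeι.ker.ideal p.1.1 := by
        rw [Scheme.IdealSheafData.ker_subschemeι]
        exact hx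
      rw [Scheme.Hom.ker_apply] at hx'
      rw [RingHom.mem_ker, Scheme.Hom.appLE]
      exact (congrArg _ (RingHom.mem_ker.1 hx')).trans (RingHom.map_zero _)
    obtain ⟨X₁, f₁, j₁, _, _, hc₁⟩ := ih i' hI' f₀
    obtain ⟨X, f, j, hf, hX, hc⟩ := exists_affine_lift_sqZero K.subschemeι f₁
    refine ⟨X, f, j₁ ≫ j, hf, hX, ?_⟩
    have h := hc₁.paste_horiz hc
    rwa [hi'] at h

/-- A smooth affine lift of a smooth affine scheme along a thickening of a locally noetherian scheme. -/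
theorem exists_affine_lift {X₀ Y₀ Y : Scheme.{u}} [IsLocallyNoetherian Y] (i : Y₀ ⟶ Y) [IsClosedImmersion i]
    [Surjective i] (f₀ : X₀ ⟶ Y₀) [Smooth f₀] [IsAffine X₀] :
    ∃ (X : Scheme.{u}) (f : X ⟶ Y) (j : X₀ ⟶ X), Smooth f ∧ IsAffine X ∧ IsPullback j f₀ f i := by
  classical
  choose W hW hxW using fun x : X₀ => TopologicalSpace.Opens.isBasis_iff_nbhd.mp Y.isBasis_affineOpens
    (Opens.mem_top ((f₀ ≫ i) x))
  obtain ⟨t, ht⟩ := (isCompact_univ (X := X₀)).elim_finite_subcover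
    (fun x => ((f₀ ≫ i) ⁻¹ᵁ W x : Set X₀)) (fun x => ((f₀ ≫ i) ⁻¹ᵁ W x).isOpen)
    (fun x _ => Set.mem_iUnion.2 ⟨x, (hxW x).1⟩)
  let U : Y.Opens := t.sup W
  have hU : IsCompact (U : Set Y) := by
    change IsCompact ((t.sup W : Y.Opens) : Set Y)
    rw [Finset.sup_eq_iSup, Opens.coe_iSup]
    simp only [Opens.coe_iSup]
    exact t.isCompact_biUnion fun x _ => (hW x).isCompact
  haveI : CompactSpace (U : Scheme.{u}) := isCompact_iff_compactSpace.mp hU
  haveI : IsNoetherian (U : Scheme.{u}) := {}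
  have hr : Set.range f₀ ⊆ Set.range (i ⁻¹ᵁ U).ι := by
    rw [Scheme.Opens.range_ι]
    rintro _ ⟨z, rfl⟩
    obtain ⟨x, hx, hz⟩ := Set.mem_iUnion₂.1 (ht (Set.mem_univ z))
    exact (Finset.le_sup (f := W) hx) hz
  let f₁ : X₀ ⟶ i ⁻¹ᵁ U := IsOpenImmersion.lift (i ⁻¹ᵁ U).ι f₀ hr
  have hf₁ : f₁ ≫ (i ⁻¹ᵁ U).ι = f₀ := IsOpenImmersion.lift_fac _ _ _
  haveI : Smooth f₁ := by
    have hp : IsPullback (𝟙 X₀) f₁ f₀ (i ⁻¹ᵁ U).ι :=
      IsPullback.of_isLimit' ⟨by rw [hf₁, Category.id_comp]⟩ (PullbackCone.IsLimit.mk _ (fun s => s.fst)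
        (fun s => Category.comp_id _)
        (fun s => (cancel_mono (i ⁻¹ᵁ U).ι).1 (by rw [Category.assoc, hf₁, s.condition]))
        (fun s t ht _ => by rw [← ht, Category.comp_id]))
    exact MorphismProperty.of_isPullback hp inferInstance
  haveI : Surjective (i ∣_ U) := ⟨fun y => by
    obtain ⟨z, hz⟩ := i.surjective (U.ι y)
    refine ⟨⟨z, show i z ∈ U by rw [hz]; exact y.2⟩, U.ι.isOpenEmbedding.injective ?_⟩
    rw [← Scheme.Hom.comp_apply, morphismRestrict_ι, Scheme.Hom.comp_apply]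
    exact hz⟩
  obtain ⟨m, hm⟩ : ∃ m, (i ∣_ U).ker ^ (2 ^ m) = ⊥ := by
    obtain ⟨s, hs⟩ := (isCompact_univ (X := (U : Scheme.{u}))).elim_finite_subcover
      (fun V : (U : Scheme.{u}).affineOpens => (V.1 : Set (U : Scheme.{u}))) (fun V => V.1.2)
      (fun x _ => by
        obtain ⟨_, ⟨V, hV, rfl⟩, hx, -⟩ :=
          (U : Scheme.{u}).isBasis_affineOpens.exists_subset_of_mem_open (Set.mem_univ x) isOpen_univ
        exact Set.mem_iUnion.mpr ⟨⟨V, hV⟩, hx⟩)
    choose e he using fun V => Groth.KTheory.DevissageNil.isNilpotent_ker_ideal (i ∣_ U) V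
    refine ⟨s.sup e, Scheme.IdealSheafData.ext_of_iSup_eq_top (fun V : s => V.1) ?_ fun V => ?_⟩
    · refine top_le_iff.mp fun x _ => ?_
      obtain ⟨V, hV, hx⟩ := Set.mem_iUnion₂.mp (hs (Set.mem_univ x))
      exact Opens.mem_iSup.mpr ⟨⟨V, hV⟩, hx⟩
    · rw [Scheme.IdealSheafData.ideal_pow, Pi.pow_apply, Scheme.IdealSheafData.ideal_bot, Pi.bot_apply]
      exact pow_eq_zero_of_le ((Finset.le_sup V.2).trans Nat.lt_two_pow_self.le) (he V.1)
  obtain ⟨X, g, j, hg, hX, hc⟩ := exists_affine_lift_pow m (i ∣_ U) hm f₁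
  haveI := hg
  refine ⟨X, g ≫ U.ι, j, inferInstance, hX, ?_⟩
  have h := hc.paste_vert (isPullback_morphismRestrict i U)
  rwa [hf₁] at h

end Groth.SmoothExt
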